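import Mathlib

set_option autoImplicit false
universe u

namespace Groth.Agent.H17.QF

theorem isIntegrallyClosed_mvPolynomial_fin (R : Type*) [CommRing R] [IsDomain R]
    [IsIntegrallyClosed R] (n : ℕ) : IsIntegrallyClosed (MvPolynomial (Fin n) R) := by
  induction n with
  | zero =>
    exact IsIntegrallyClosed.of_equiv (MvPolynomial.isEmptyAlgEquiv R (Fin 0)).symm.toRingEquiv
  | succ n ih =>
    haveI := ih
    exact IsIntegrallyClosed.of_equiv (MvPolynomial.finSuccEquiv R n).symm.toRingEquiv

theorem isIntegrallyClosed_mvPolynomial (R : Type*) [CommRing R] [IsDomain R]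
    [IsIntegrallyClosed R] (σ : Type*) [Finite σ] : IsIntegrallyClosed (MvPolynomial σ R) := by
  obtain ⟨n, ⟨e⟩⟩ := Finite.exists_equiv_fin σ
  haveI := isIntegrallyClosed_mvPolynomial_fin R n
  exact IsIntegrallyClosed.of_equiv (MvPolynomial.renameEquiv R e).symm.toRingEquiv

end Groth.Agent.H17.QF
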