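import Groth.Agent.H17.Chev.CompDim
import Groth.Agent.H17.Chev.FibreLocal
import Groth.Prelude.Def_EGA43

set_option autoImplicit false
set_option linter.style.haveILetI false
universe u
open CategoryTheory AlgebraicGeometry Limits Topology TopologicalSpace

namespace Groth.Agent.H17.QF

open Groth.Agent.H17.Chev

/-- The dimension of an irreducible component of the set-theoretic fibre equals the local fibre
dimension at its generic point. -/
theorem dim_irreducibleComponent_preimage_eq_fibreDimAt {X S : Scheme.{u}} (f : X ⟶ S)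
    [LocallyOfFiniteType f] (s : S)
    (Z : Set ↥(f.base ⁻¹' {s})) (hZ : Z ∈ irreducibleComponents ↥(f.base ⁻¹' {s}))
    (z : X) (hz : z ∈ Subtype.val '' Z ∧ Subtype.val '' Z ⊆ closure {z}) :
    topologicalKrullDim ↥Z = FlatMor.fibreDimAt f z := by
  obtain ⟨⟨⟨z, hzs⟩, hzZ, rfl⟩, hcl⟩ := hz
  have hZc : IsClosed Z := isClosed_of_mem_irreducibleComponents Z hZ
  have hgen : closure ({⟨z, hzs⟩} : Set ↥(f.base ⁻¹' {s})) = Z := by
    apply subset_antisymm
    · exact closure_minimal (Set.singleton_subset_iff.mpr hzZ) hZc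
    · intro t ht
      rw [Topology.IsInducing.subtypeVal.closure_eq_preimage_closure_image]
      have : t.1 ∈ closure ({z} : Set X) := hcl ⟨t, ht, rfl⟩
      simpa using this
  have hzs' : f.base z = s := hzs
  subst hzs'
  let h := f.fiberHomeo (f.base z)
  have hZ' : h ⁻¹' Z ∈ irreducibleComponents ↥(f.fiber (f.base z)) := by
    apply preimage_mem_irreducibleComponents hZ h.isOpenEmbedding
    rw [h.range_coe, Set.inter_univ]
    exact ⟨_, hzZ⟩
  have hw : IsGenericPoint (f.asFiber z) (h ⁻¹' Z) := by
    change closure {f.asFiber z} = h ⁻¹' Z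
    rw [← hgen, h.preimage_closure]
    congr 1
    ext t
    simp only [Set.mem_singleton_iff, Set.mem_preimage]
    constructor
    · rintro rfl
      exact h.apply_symm_apply _
    · intro ht
      change t = h.symm ⟨z, rfl⟩
      rw [← ht, h.symm_apply_apply]
  have hlft : LocallyOfFiniteType (f.fiberToSpecResidueField (f.base z)) :=
    inferInstanceAs (LocallyOfFiniteType (pullback.snd f (S.fromSpecResidueField (f.base z))))
  have h1 := dim_irreducibleComponent_eq_localDim (S.residueField (f.base z))
    (f.fiberToSpecResidueField (f.base z)) _ hZ' (f.asFiber z) hw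
  have h2 : topologicalKrullDim ↥(h ⁻¹' Z) = topologicalKrullDim ↥Z :=
    IsHomeomorph.topologicalKrullDim_eq _
      (h.subtype (p := fun a => a ∈ h ⁻¹' Z) (q := fun b => b ∈ Z) (fun a => Iff.rfl)).isHomeomorph
  rw [← h2, h1]
  rfl

/-- Universal openness at a point gives openness of any base change (presented by an arbitrary
cartesian square) at points above it. -/
theorem isOpenAt_of_isUnivOpenAt_of_isPullback {X Y X' Y' : Scheme.{u}} (f : X ⟶ Y) (g : Y' ⟶ Y)
    (f' : X' ⟶ Y') (g' : X' ⟶ X) (hc : IsPullback g' f' f g) (x : X)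
    (h : EGA43.IsUnivOpenAt f x) (x' : X') (hx' : g'.base x' = x) :
    EGA43.IsOpenAt f'.base x' := by
  let e := hc.isoPullback
  have h1 : e.hom ≫ pullback.fst f g = g' := hc.isoPullback_hom_fst
  have h2 : e.hom ≫ pullback.snd f g = f' := hc.isoPullback_hom_snd
  have h3 := h Y' g (e.hom.base x') (by
    rw [← Scheme.Hom.comp_apply, h1]; exact hx')
  intro N hN
  have h4 : e.hom.base '' N ∈ nhds (e.hom.base x') :=
    e.hom.isOpenEmbedding.isOpenMap.image_mem_nhds hN
  have h5 := h3 _ h4
  have h6 : (pullback.snd f g).base '' (e.hom.base '' N) = f'.base '' N := by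
    rw [← Set.image_comp]
    congr 1
    ext t
    change (e.hom ≫ pullback.snd f g).base t = _
    rw [h2]
  have h7 : (pullback.snd f g).base (e.hom.base x') = f'.base x' := by
    rw [← Scheme.Hom.comp_apply, h2]
  rw [h6, h7] at h5
  exact h5

end Groth.Agent.H17.QF
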