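import Groth.Agent.H17.QF.GoingDownSch2
import Groth.Agent.H17.QF.MvPolyIC
import Groth.Agent.H17.Val.OpenAtGen
import Groth.Agent.H17.Val.ValGeo
import Groth.Agent.H17.Val.ValStalk
import Groth.Agent.H17.Val.DenseOpen
import Groth.Agent.H17.Chev.QFAff
import Groth.Agent.H17.Chev.FamCycT
import Groth.Agent.H17.Chev.FlatLC

set_option autoImplicit false
set_option linter.style.haveILetI false
universe u
open CategoryTheory AlgebraicGeometry Limits Topology TopologicalSpace

namespace Groth.Agent.H17.QF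

open Groth.Agent.H17.Chev Groth.Agent.H17.Val

/-- In the prime spectrum of a domain, a maximal point (for the specialization order) is `⊥`. -/
theorem eq_bot_of_isMax_primeSpectrum {R : Type*} [CommRing R] [IsDomain R] (t : PrimeSpectrum R)
    (ht : ∀ t' : PrimeSpectrum R, t' ⤳ t → t ⤳ t') : t = ⊥ := by
  have h1 : (⊥ : PrimeSpectrum R) ⤳ t := (PrimeSpectrum.le_iff_specializes _ _).mp bot_le
  exact ((ht _ h1).antisymm h1).eq

/-- **Core lemma** for quasi-finite morphisms to affine space over a valuation ring. -/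
theorem exists_specializes_of_lqf_affineSpace_valuationRing {V : Type u} [CommRing V] [IsDomain V]
    [ValuationRing V] (n : ℕ) {XN : Scheme.{u}}
    (uN : XN ⟶ 𝔸(ULift.{u} (Fin n); Spec (CommRingCat.of V))) [LocallyQuasiFinite uN]
    [LocallyOfFiniteType (uN ≫ (𝔸(ULift.{u} (Fin n); Spec (CommRingCat.of V)) ↘
      Spec (CommRingCat.of V)))]
    (zV w : XN) (hzw : zV ⤳ w)
    (hmax : ∀ z' : XN, (uN ≫ (𝔸(ULift.{u} (Fin n); Spec (CommRingCat.of V)) ↘
        Spec (CommRingCat.of V))).base z' =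
      (uN ≫ (𝔸(ULift.{u} (Fin n); Spec (CommRingCat.of V)) ↘ Spec (CommRingCat.of V))).base zV →
      z' ⤳ zV → zV ⤳ z')
    (hopen : EGA43.IsOpenAt (uN ≫ (𝔸(ULift.{u} (Fin n); Spec (CommRingCat.of V)) ↘
      Spec (CommRingCat.of V))).base zV)
    (hdim : (n : WithBot ℕ∞) ≤ FlatMor.fibreDimAt (uN ≫ (𝔸(ULift.{u} (Fin n);
      Spec (CommRingCat.of V)) ↘ Spec (CommRingCat.of V))) zV)
    (b' : 𝔸(ULift.{u} (Fin n); Spec (CommRingCat.of V))) (hb' : b' ⤳ uN.base w) :
    ∃ w' : XN, w' ⤳ w ∧ uN.base w' = b' := by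
  set π := (𝔸(ULift.{u} (Fin n); Spec (CommRingCat.of V)) ↘ Spec (CommRingCat.of V)) with hπ
  set g := uN ≫ π with hg
  -- generic point above
  obtain ⟨ξ, hξz, hξ⟩ := exists_specializes_map_eq_bot_of_isOpenAt g zV hopen
  have hξ' : g.base ξ = genericPoint (Spec (CommRingCat.of V)) := by
    rw [genericPoint_eq_bot_of_affine]; exact hξ
  have h1 := dim_closure_asFiber_le_of_specializes g zV ξ hξz hξ'
    (dvd_total_stalk_of_valuationRing V _)
  have hmaxU : IsMax (g.asFiber zV) := by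
    rw [isMax_asFiber_iff]; exact hmax
  rw [dim_closure_asFiber_eq_fibreDimAt_of_isMax_asFiber g zV hmaxU] at h1
  -- maximal point of the generic fibre
  obtain ⟨ξ', hξ'1, hξ'2, hξ'max, -, hξ'dim⟩ := exists_maximal_fibre_point_fibreDimAt_eq g ξ
  have hξ'gen : g.base ξ' = genericPoint (Spec (CommRingCat.of V)) := hξ'1.trans hξ'
  have hgenmax : ∀ y : Spec (CommRingCat.of V), y ⤳ genericPoint (Spec (CommRingCat.of V)) →
      y = genericPoint (Spec (CommRingCat.of V)) := by
    intro y hy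
    have h2 : genericPoint (Spec (CommRingCat.of V)) ⤳ y :=
      (genericPoint_spec _).specializes (Set.mem_univ _)
    exact (hy.antisymm h2).eq
  have hξ'Max : IsMax ξ' := by
    intro t ht
    have h2 : t ⤳ ξ' := ht
    have h3 : g.base t ⤳ g.base ξ' := h2.map g.continuous
    rw [hξ'gen] at h3
    have h4 : g.base t = g.base ξ' := by rw [hξ'gen]; exact hgenmax _ h3
    have h5 := hξ'max t h4 h2
    rw [h5]
  have h2 : (n : WithBot ℕ∞) ≤
      topologicalKrullDim ↥(closure ({g.asFiber ξ'} : Set ↥(g.fiber (g.base ξ')))) := by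
    rw [dim_closure_asFiber_eq_fibreDimAt_of_isMax g ξ' hξ'Max, hξ'dim]
    exact hdim.trans (h1.trans (dim_closure_asFiber_le_fibreDimAt g ξ))
  rw [dim_closure_asFiber_comp_lqf uN π ξ'] at h2
  have hπmax : IsMax (π.base (uN.base ξ')) := by
    intro y hy
    have h3 : y ⤳ π.base (uN.base ξ') := hy
    have h4 : π.base (uN.base ξ') = genericPoint (Spec (CommRingCat.of V)) := hξ'gen
    rw [h4] at h3 ⊢
    rw [hgenmax _ h3]
  have hNmax : IsMax (uN.base ξ') :=
    isMax_of_le_dim_closure_asFiber (Spec (CommRingCat.of V)) n (uN.base ξ') hπmax h2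
  -- pass to the spectrum of the polynomial ring
  let e := AffineSpace.SpecIso (ULift.{u} (Fin n)) (CommRingCat.of V)
  haveI : IsIntegrallyClosed (MvPolynomial (ULift.{u} (Fin n)) V) :=
    isIntegrallyClosed_mvPolynomial V _
  let Φ : XN ⟶ Spec (CommRingCat.of (MvPolynomial (ULift.{u} (Fin n)) V)) := uN ≫ e.hom
  haveI : LocallyOfFiniteType uN := locallyOfFiniteType_of_comp uN π
  haveI : LocallyOfFiniteType Φ := inferInstanceAs (LocallyOfFiniteType (uN ≫ e.hom))
  haveI : LocallyQuasiFinite Φ := inferInstanceAs (LocallyQuasiFinite (uN ≫ e.hom))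
  have hinv : ∀ t, e.inv.base (e.hom.base t) = t := by
    intro t
    rw [← Scheme.Hom.comp_apply, e.hom_inv_id]; rfl
  have hinv' : ∀ t, e.hom.base (e.inv.base t) = t := by
    intro t
    rw [← Scheme.Hom.comp_apply, e.inv_hom_id]; rfl
  have hΦξ : Φ.base ξ' = (⊥ : PrimeSpectrum (MvPolynomial (ULift.{u} (Fin n)) V)) := by
    apply eq_bot_of_isMax_primeSpectrum
    intro t' ht'
    have h3 : e.inv.base t' ⤳ e.inv.base (e.hom.base (uN.base ξ')) := ht'.map e.inv.continuous
    rw [hinv] at h3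
    have h4 : uN.base ξ' ⤳ e.inv.base t' := hNmax (show uN.base ξ' ≤ _ from h3)
    have h5 := h4.map e.hom.continuous
    have h6 : e.hom.base (e.inv.base t') = t' := hinv' t'
    exact h6 ▸ h5
  have hξ'w : ξ' ⤳ w := hξ'2.trans (hξz.trans hzw)
  have hb'' : e.hom.base b' ⤳ Φ.base w := hb'.map e.hom.continuous
  obtain ⟨w', hw'w, -, hw'⟩ := exists_specializes_of_lqf_of_map_eq_bot Φ ξ' w hξ'w hΦξ _ hb''
  refine ⟨w', hw'w, ?_⟩
  have h3 : e.inv.base (Φ.base w') = e.inv.base (e.hom.base b') := by rw [hw']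
  rw [hinv] at h3
  rw [← h3]
  exact (hinv (uN.base w')).symm
end Groth.Agent.H17.QF
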