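import Mathlib

set_option autoImplicit false
set_option linter.style.haveILetI false
universe u
open CategoryTheory AlgebraicGeometry Limits Topology TopologicalSpace

namespace Groth.Agent.H17.QF

/-- In a cartesian square, generizations inside a fibre lift along the projection. -/
theorem exists_specializes_of_isPullback_of_same_fibre {X Y X' Y' : Scheme.{u}} (f : X ⟶ Y)
    (g : Y' ⟶ Y) (f' : X' ⟶ Y') (g' : X' ⟶ X) (hc : IsPullback g' f' f g) (x' : X') (x₁ : X)
    (h1 : x₁ ⤳ g'.base x') (h2 : f.base x₁ = f.base (g'.base x')) :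
    ∃ x₁' : X', x₁' ⤳ x' ∧ g'.base x₁' = x₁ ∧ f'.base x₁' = f'.base x' := by
  set t' := f'.base x' with ht'
  have hw : f.base (g'.base x') = g.base t' := by
    have := congrArg (fun h => h.base x') hc.w
    simpa using this
  let φ : f'.fiber t' ⟶ f.fiber (g.base t') :=
    pullback.map _ _ _ _ g' (Spec.map (g.residueFieldMap t')) g hc.w.symm (by simp)
  have hφ : IsPullback φ (f'.fiberToSpecResidueField t') (f.fiberToSpecResidueField (g.base t'))
      (Spec.map (g.residueFieldMap t')) := isPullback_fiberToSpecResidueField_of_isPullback hc t'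
  have hφι : φ ≫ f.fiberι (g.base t') = f'.fiberι t' ≫ g' := pullback.lift_fst _ _ _
  haveI : Flat (Spec.map (g.residueFieldMap t')) := by
    rw [HasRingHomProperty.Spec_iff (P := @Flat)]
    algebraize [(g.residueFieldMap t').hom]
    exact inferInstanceAs (Module.Flat _ _)
  haveI : Flat φ := MorphismProperty.of_isPullback (P := @Flat) hφ.flip inferInstance
  have hgen : GeneralizingMap φ.base := Flat.generalizingMap φ
  have hpt : ∀ a, (f.fiberι (g.base t')).base (φ.base a) = g'.base ((f'.fiberι t').base a) := by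
    intro a
    have := congrArg (fun h => h.base a) hφι
    simpa using this
  -- the points
  have hx₁mem : x₁ ∈ Set.range (f.fiberι (g.base t')).base := by
    rw [Scheme.Hom.range_fiberι]; exact h2.trans hw
  obtain ⟨a₁, ha₁⟩ := hx₁mem
  let a' : ↥(f'.fiber t') := f'.asFiber x'
  have ha' : (f'.fiberι t').base a' = x' := f'.fiberι_asFiber x'
  have hsp : a₁ ⤳ φ.base a' := by
    rw [← (f.fiberι (g.base t')).isEmbedding.isInducing.specializes_iff, ha₁, hpt a', ha']
    exact h1
  obtain ⟨a₁', ha₁'sp, ha₁'⟩ := hgen hsp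
  refine ⟨(f'.fiberι t').base a₁', ?_, ?_, ?_⟩
  · rw [← ha']
    exact ha₁'sp.map (f'.fiberι t').continuous
  · rw [← hpt a₁', ha₁', ha₁]
  · have : (f'.fiberι t').base a₁' ∈ Set.range (f'.fiberι t').base := ⟨a₁', rfl⟩
    rw [Scheme.Hom.range_fiberι] at this
    exact this

end Groth.Agent.H17.QF
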