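import Mathlib

set_option autoImplicit false
set_option linter.style.haveILetI false
universe u
open CategoryTheory AlgebraicGeometry

namespace Groth.Agent.H17.QF

/-- **Going down at a quasi-finite point over an integrally closed domain** (consequence of
Zariski's main theorem and going-down for integral extensions). -/
theorem exists_le_comap_eq_of_quasiFiniteAt {R S : Type*} [CommRing R] [IsDomain R]
    [IsIntegrallyClosed R] [CommRing S] [IsDomain S] [Algebra R S] [FaithfulSMul R S]
    [Algebra.FiniteType R S] (p : Ideal S) [p.IsPrime] [Algebra.QuasiFiniteAt R p]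
    (𝔮 : Ideal R) [𝔮.IsPrime] (h𝔮 : 𝔮 ≤ p.comap (algebraMap R S)) :
    ∃ q : Ideal S, q.IsPrime ∧ q ≤ p ∧ q.comap (algebraMap R S) = 𝔮 := by
  obtain ⟨S', hS', r, hrp, hbij⟩ :=
    Algebra.QuasiFiniteAt.exists_fg_and_exists_notMem_and_awayMap_bijective (R := R) p
  haveI : Module.Finite R S' := ⟨(Submodule.fg_top _).mpr hS'⟩
  haveI : Algebra.IsIntegral R S' := inferInstance
  haveI : FaithfulSMul R S' := by
    rw [faithfulSMul_iff_algebraMap_injective]
    intro a b hab
    apply FaithfulSMul.algebraMap_injective R S
    have := congrArg S'.val hab
    simpa using this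
  haveI : Algebra.HasGoingDown R S' := inferInstance
  let p' : Ideal S' := p.comap S'.val.toRingHom
  haveI hp' : p'.IsPrime := Ideal.comap_isPrime _ _
  have hp'over : p'.LiesOver (p.comap (algebraMap R S)) := by
    constructor
    ext a
    simp only [Ideal.mem_comap, Ideal.under, p']
    rfl
  obtain ⟨q', hq'le, hq'prime, hq'over⟩ :=
    Ideal.exists_ideal_le_liesOver_of_le (p := 𝔮) (q := p.comap (algebraMap R S)) p' h𝔮
  have hrq' : r ∉ q' := fun h => hrp (hq'le h)
  -- the localizations
  let φ : (Localization.Away r) →+* (Localization.Away r.1) := Localization.awayMap S'.val.toRingHom r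
  let e : (Localization.Away r) ≃+* (Localization.Away r.1) := RingEquiv.ofBijective φ hbij
  have hφ : ∀ t : S', φ (algebraMap S' (Localization.Away r) t) = algebraMap S (Localization.Away r.1) t.1 := by
    intro t
    change Localization.awayMap S'.val.toRingHom r (algebraMap S' (Localization.Away r) t) = _
    unfold Localization.awayMap IsLocalization.Away.map
    exact IsLocalization.map_eq (S := Localization.Away r) (Q := Localization.Away (S'.val.toRingHom r)) _ t
  have hdisj : Disjoint (Submonoid.powers r : Set S') (q' : Set S') := by
    rw [Set.disjoint_left]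
    rintro _ ⟨n, rfl⟩ hmem
    exact hrq' (hq'prime.mem_of_pow_mem n hmem)
  let Q' : Ideal (Localization.Away r) := q'.map (algebraMap S' (Localization.Away r))
  haveI hQ'prime : Q'.IsPrime :=
    IsLocalization.isPrime_of_isPrime_disjoint (Submonoid.powers r) (Localization.Away r) q' hq'prime hdisj
  have hQ'comap : Q'.comap (algebraMap S' (Localization.Away r)) = q' :=
    IsLocalization.under_map_of_isPrime_disjoint (Submonoid.powers r) (Localization.Away r) hq'prime hdisj
  let Q : Ideal (Localization.Away r.1) := Q'.comap e.symm.toRingHom
  haveI hQprime : Q.IsPrime := Ideal.comap_isPrime _ _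
  let q : Ideal S := Q.comap (algebraMap S (Localization.Away r.1))
  haveI hqprime : q.IsPrime := Ideal.comap_isPrime _ _
  have hqS' : q.comap S'.val.toRingHom = q' := by
    ext t
    rw [← hQ'comap]
    simp only [Ideal.mem_comap, q, Q]
    have h1 : e.symm.toRingHom (algebraMap S (Localization.Away r.1) (S'.val.toRingHom t)) = algebraMap S' (Localization.Away r) t := by
      change e.symm (algebraMap S (Localization.Away r.1) t.1) = _
      rw [← hφ t]
      exact e.symm_apply_apply _
    rw [h1]
  refine ⟨q, hqprime, ?_, ?_⟩
  · -- q ≤ p
    have hdisjp : Disjoint (Submonoid.powers r.1 : Set S) (p : Set S) := by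
      rw [Set.disjoint_left]
      rintro _ ⟨n, rfl⟩ hmem
      exact hrp (Ideal.IsPrime.mem_of_pow_mem inferInstance n hmem)
    have hPcomap : (p.map (algebraMap S (Localization.Away r.1))).comap (algebraMap S (Localization.Away r.1)) = p :=
      IsLocalization.under_map_of_isPrime_disjoint (Submonoid.powers r.1) (Localization.Away r.1) inferInstance hdisjp
    have hQP : Q ≤ p.map (algebraMap S (Localization.Away r.1)) := by
      have h2 : Q' ≤ (p.map (algebraMap S (Localization.Away r.1))).comap e.toRingHom := by
        rw [Ideal.map_le_iff_le_comap]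
        intro t ht
        simp only [Ideal.mem_comap]
        change e (algebraMap S' (Localization.Away r) t) ∈ _
        have : e (algebraMap S' (Localization.Away r) t) = algebraMap S (Localization.Away r.1) t.1 := hφ t
        rw [this]
        exact Ideal.mem_map_of_mem _ (hq'le ht)
      intro y hy
      have hy' : e.symm y ∈ Q' := hy
      have := h2 hy'
      simp only [Ideal.mem_comap] at this
      have h3 : e.toRingHom (e.symm y) = y := e.apply_symm_apply y
      rwa [h3] at this
    calc q ≤ (p.map (algebraMap S (Localization.Away r.1))).comap (algebraMap S (Localization.Away r.1)) := Ideal.comap_mono hQP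
      _ = p := hPcomap
  · -- lies over 𝔮
    have h1 : q.comap (algebraMap R S) = (q.comap S'.val.toRingHom).comap (algebraMap R S') := by
      ext a
      simp only [Ideal.mem_comap]
      rfl
    rw [h1, hqS']
    exact (hq'over.over).symm

end Groth.Agent.H17.QF
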