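import Groth.Agent.H17.QF.GoingDownQF

set_option autoImplicit false
set_option linter.style.haveILetI false
universe u
open CategoryTheory AlgebraicGeometry

namespace Groth.Agent.H17.QF

/-- **Going down for quasi-finite dominant morphisms to a normal affine base**: if `T` is integral,
`Φ : T ⟶ Spec R` is dominant, locally of finite type and locally quasi-finite with `R` an
integrally closed domain, then every generization of `Φ w` lifts to a generization of `w`. -/
theorem exists_specializes_of_lqf_of_isIntegrallyClosed {T : Scheme.{u}} [IsIntegral T]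
    {R : Type u} [CommRing R] [IsDomain R] [IsIntegrallyClosed R]
    (Φ : T ⟶ Spec (CommRingCat.of R)) [LocallyOfFiniteType Φ] [LocallyQuasiFinite Φ]
    [IsDominant Φ] (w : T) (b' : Spec (CommRingCat.of R)) (hb' : b' ⤳ Φ.base w) :
    ∃ w' : T, w' ⤳ w ∧ Φ.base w' = b' := by
  obtain ⟨_, ⟨(W : T.Opens), hW, rfl⟩, hwW, -⟩ :=
    T.isBasis_affineOpens.exists_subset_of_mem_open (Set.mem_univ w) isOpen_univ
  have hW' : IsAffineOpen W := hW
  obtain ⟨p, hp⟩ : ∃ p, hW'.fromSpec.base p = w := by
    have : w ∈ Set.range hW'.fromSpec.base := by rw [hW'.range_fromSpec]; exact hwW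
    exact this
  obtain ⟨ψ, hψ⟩ := Spec.map_surjective (hW'.fromSpec ≫ Φ)
  have hcomp : ∀ t, PrimeSpectrum.comap ψ.hom t = Φ.base (hW'.fromSpec.base t) := by
    intro t
    have : (Spec.map ψ).base t = (hW'.fromSpec ≫ Φ).base t := by rw [hψ]
    exact this
  haveI : IsDomain Γ(T, W) := @IsIntegral.component_integral T _ W ⟨⟨w, hwW⟩⟩
  -- algebra structure
  letI : Algebra R Γ(T, W) := ψ.hom.toAlgebra
  have hlft : LocallyOfFiniteType (Spec.map ψ) := by rw [hψ]; infer_instance
  have hlqf : LocallyQuasiFinite (Spec.map ψ) := by rw [hψ]; infer_instance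
  have hft : ψ.hom.FiniteType := (HasRingHomProperty.Spec_iff (P := @LocallyOfFiniteType)).mp hlft
  have hqf : ψ.hom.QuasiFinite := (HasRingHomProperty.Spec_iff (P := @LocallyQuasiFinite)).mp hlqf
  haveI : Algebra.FiniteType R Γ(T, W) := hft
  haveI : Algebra.QuasiFinite R Γ(T, W) := hqf
  -- injectivity from dominance
  have hdom : IsDominant (Spec.map ψ) := by
    rw [hψ]
    haveI : IsDominant hW'.fromSpec := by
      constructor
      rw [DenseRange, hW'.range_fromSpec]
      exact W.isOpen.dense ⟨w, hwW⟩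
    infer_instance
  haveI : FaithfulSMul R Γ(T, W) := by
    rw [faithfulSMul_iff_algebraMap_injective]
    have h1 : DenseRange (PrimeSpectrum.comap ψ.hom) := hdom.denseRange
    rw [PrimeSpectrum.denseRange_comap_iff_ker_le_nilRadical] at h1
    rw [RingHom.injective_iff_ker_eq_bot, eq_bot_iff]
    refine le_trans h1 ?_
    rw [nilradical_eq_zero R]
    exact le_refl _
  let p' : PrimeSpectrum Γ(T, W) := p
  let b'' : PrimeSpectrum R := b'
  haveI : b''.asIdeal.IsPrime := b''.2
  have hle : b''.asIdeal ≤ p'.asIdeal.comap (algebraMap R Γ(T, W)) := by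
    have h1 : b'' ⤳ PrimeSpectrum.comap ψ.hom p' := by
      rw [hcomp p', hp]; exact hb'
    exact (PrimeSpectrum.le_iff_specializes _ _).mpr h1
  obtain ⟨q, hqprime, hqle, hqcomap⟩ :=
    exists_le_comap_eq_of_quasiFiniteAt (R := R) p'.asIdeal b''.asIdeal hle
  let q' : PrimeSpectrum Γ(T, W) := ⟨q, hqprime⟩
  refine ⟨hW'.fromSpec.base q', ?_, ?_⟩
  · rw [← hp]
    exact ((PrimeSpectrum.le_iff_specializes q' p').mp hqle).map hW'.fromSpec.continuous
  · rw [← hcomp q']
    exact PrimeSpectrum.ext hqcomap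

end Groth.Agent.H17.QF
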