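import Groth.Agent.H17.QF.GoingDownQF

set_option autoImplicit false
set_option linter.style.haveILetI false
universe u
open CategoryTheory AlgebraicGeometry

namespace Groth.Agent.H17.QF

/-- **Going down for quasi-finite morphisms to a normal affine base, along a given generic
point**: if `Φ : T ⟶ Spec R` is locally of finite type and locally quasi-finite with `R` an
integrally closed domain, `ξ ⤳ w` and `Φ ξ` is the generic point, then every generization of `Φ w`
lifts to a generization of `w` (which is a specialization of `ξ`). -/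
theorem exists_specializes_of_lqf_of_map_eq_bot {T : Scheme.{u}}
    {R : Type u} [CommRing R] [IsDomain R] [IsIntegrallyClosed R]
    (Φ : T ⟶ Spec (CommRingCat.of R)) [LocallyOfFiniteType Φ] [LocallyQuasiFinite Φ]
    (ξ w : T) (hξw : ξ ⤳ w) (hξ : Φ.base ξ = (⊥ : PrimeSpectrum R))
    (b' : Spec (CommRingCat.of R)) (hb' : b' ⤳ Φ.base w) :
    ∃ w' : T, w' ⤳ w ∧ ξ ⤳ w' ∧ Φ.base w' = b' := by
  obtain ⟨_, ⟨(W : T.Opens), hW, rfl⟩, hwW, -⟩ :=
    T.isBasis_affineOpens.exists_subset_of_mem_open (Set.mem_univ w) isOpen_univ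
  have hW' : IsAffineOpen W := hW
  have hξW : ξ ∈ W := hξw.mem_open W.isOpen hwW
  obtain ⟨p, hp⟩ : ∃ p, hW'.fromSpec.base p = w := by
    have : w ∈ Set.range hW'.fromSpec.base := by rw [hW'.range_fromSpec]; exact hwW
    exact this
  obtain ⟨P, hP⟩ : ∃ p, hW'.fromSpec.base p = ξ := by
    have : ξ ∈ Set.range hW'.fromSpec.base := by rw [hW'.range_fromSpec]; exact hξW
    exact this
  obtain ⟨ψ, hψ⟩ := Spec.map_surjective (hW'.fromSpec ≫ Φ)
  have hcomp : ∀ t, PrimeSpectrum.comap ψ.hom t = Φ.base (hW'.fromSpec.base t) := by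
    intro t
    have : (Spec.map ψ).base t = (hW'.fromSpec ≫ Φ).base t := by rw [hψ]
    exact this
  -- algebra structure
  letI : Algebra R Γ(T, W) := ψ.hom.toAlgebra
  have hlft : LocallyOfFiniteType (Spec.map ψ) := by rw [hψ]; infer_instance
  have hlqf : LocallyQuasiFinite (Spec.map ψ) := by rw [hψ]; infer_instance
  have hft : ψ.hom.FiniteType := (HasRingHomProperty.Spec_iff (P := @LocallyOfFiniteType)).mp hlft
  have hqf : ψ.hom.QuasiFinite := (HasRingHomProperty.Spec_iff (P := @LocallyQuasiFinite)).mp hlqf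
  haveI : Algebra.FiniteType R Γ(T, W) := hft
  haveI : Algebra.QuasiFinite R Γ(T, W) := hqf
  let p' : PrimeSpectrum Γ(T, W) := p
  let P' : PrimeSpectrum Γ(T, W) := P
  let b'' : PrimeSpectrum R := b'
  haveI : b''.asIdeal.IsPrime := b''.2
  haveI : P'.asIdeal.IsPrime := P'.2
  haveI : p'.asIdeal.IsPrime := p'.2
  have hPp : P'.asIdeal ≤ p'.asIdeal := by
    have h1 : P' ⤳ p' := by
      apply hW'.fromSpec.isOpenEmbedding.isEmbedding.isInducing.specializes_iff.mp
      rw [hp, hP]; exact hξw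
    exact (PrimeSpectrum.le_iff_specializes _ _).mpr h1
  -- the quotient domain
  haveI : IsDomain (Γ(T, W) ⧸ P'.asIdeal) := Ideal.Quotient.isDomain _
  haveI : Algebra.FiniteType R (Γ(T, W) ⧸ P'.asIdeal) :=
    Algebra.FiniteType.of_surjective (Ideal.Quotient.mkₐ R P'.asIdeal)
      (Ideal.Quotient.mkₐ_surjective R P'.asIdeal)
  haveI : FaithfulSMul R (Γ(T, W) ⧸ P'.asIdeal) := by
    rw [faithfulSMul_iff_algebraMap_injective, RingHom.injective_iff_ker_eq_bot, eq_bot_iff]
    intro a ha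
    have h1 : algebraMap R Γ(T, W) a ∈ P'.asIdeal := by
      have h2 : (Ideal.Quotient.mk P'.asIdeal) (algebraMap R Γ(T, W) a) = 0 := ha
      exact Ideal.Quotient.eq_zero_iff_mem.mp h2
    have h3 : a ∈ (PrimeSpectrum.comap ψ.hom P').asIdeal := h1
    rw [hcomp P', hP] at h3
    rw [hξ] at h3
    exact h3
  let pbar : Ideal (Γ(T, W) ⧸ P'.asIdeal) := p'.asIdeal.map (Ideal.Quotient.mk P'.asIdeal)
  have hpbar_comap : pbar.comap (Ideal.Quotient.mk P'.asIdeal) = p'.asIdeal := by
    rw [Ideal.comap_map_of_surjective _ Ideal.Quotient.mk_surjective]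
    rw [← RingHom.ker_eq_comap_bot, Ideal.mk_ker]
    exact sup_eq_left.mpr hPp
  haveI hpbar : pbar.IsPrime := by
    apply Ideal.map_isPrime_of_surjective Ideal.Quotient.mk_surjective
    rw [Ideal.mk_ker]; exact hPp
  have hle : b''.asIdeal ≤ pbar.comap (algebraMap R (Γ(T, W) ⧸ P'.asIdeal)) := by
    have h1 : b'' ⤳ PrimeSpectrum.comap ψ.hom p' := by
      rw [hcomp p', hp]; exact hb'
    have h2 := (PrimeSpectrum.le_iff_specializes _ _).mpr h1
    intro a ha
    have h3 : algebraMap R Γ(T, W) a ∈ p'.asIdeal := h2 ha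
    rw [← hpbar_comap] at h3
    exact h3
  obtain ⟨q, hqprime, hqle, hqcomap⟩ :=
    exists_le_comap_eq_of_quasiFiniteAt (R := R) pbar b''.asIdeal hle
  let q' : PrimeSpectrum Γ(T, W) := ⟨q.comap (Ideal.Quotient.mk P'.asIdeal), Ideal.comap_isPrime _ _⟩
  have hq'p : q'.asIdeal ≤ p'.asIdeal := by
    rw [← hpbar_comap]; exact Ideal.comap_mono hqle
  have hPq' : P'.asIdeal ≤ q'.asIdeal := by
    intro a ha
    change (Ideal.Quotient.mk P'.asIdeal) a ∈ q
    rw [Ideal.Quotient.eq_zero_iff_mem.mpr ha]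
    exact q.zero_mem
  refine ⟨hW'.fromSpec.base q', ?_, ?_, ?_⟩
  · rw [← hp]
    exact ((PrimeSpectrum.le_iff_specializes q' p').mp hq'p).map hW'.fromSpec.continuous
  · rw [← hP]
    exact ((PrimeSpectrum.le_iff_specializes P' q').mp hPq').map hW'.fromSpec.continuous
  · rw [← hcomp q']
    apply PrimeSpectrum.ext
    rw [← hqcomap]
    rfl

end Groth.Agent.H17.QF
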