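import Groth.Agent.H17.QF.Core
import Groth.Agent.H17.QF.CompFib
import Groth.Agent.H17.QF.FibGen2
import Groth.Agent.H17.Val.BCDim
import Groth.Agent.H49.FibreDimAtBC

set_option autoImplicit false
set_option linter.style.haveILetI false
universe u
open CategoryTheory AlgebraicGeometry Limits Topology TopologicalSpace

namespace Groth.Agent.H17.QF

open Groth.Agent.H17.Chev Groth.Agent.H17.Val

/-- **Key claim**: base change of a quasi-finite `u : X ⟶ 𝔸ⁿ_S` along a valuation ring
`θ : Spec V ⟶ 𝔸ⁿ_S`; points over `x` have generizations over the generic point of `Spec V`. -/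
theorem exists_generization_over_generic {X S : Scheme.{u}} (f : X ⟶ S) [LocallyOfFiniteType f]
    (n : ℕ) (u : X ⟶ 𝔸(ULift.{u} (Fin n); S)) [LocallyQuasiFinite u]
    (hu : u ≫ (𝔸(ULift.{u} (Fin n); S) ↘ S) = f)
    (x z : X) (hzx : z ⤳ x) (hfz : f.base z = f.base x)
    (hzmax : ∀ z' : X, f.base z' = f.base z → z' ⤳ z → z' = z)
    (hopen : EGA43.IsUnivOpenAt f z)
    (hdim : (n : WithBot ℕ∞) ≤ FlatMor.fibreDimAt f z)
    {V : Type u} [CommRing V] [IsDomain V] [ValuationRing V]
    {P : Scheme.{u}} (θ : Spec (CommRingCat.of V) ⟶ 𝔸(ULift.{u} (Fin n); S))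
    (a : P ⟶ X) (b : P ⟶ Spec (CommRingCat.of V)) (hc : IsPullback a b u θ)
    (xP : P) (hxP : a.base xP = x) :
    ∃ xP' : P, xP' ⤳ xP ∧ b.base xP' = (⊥ : PrimeSpectrum V) := by
  set q := (𝔸(ULift.{u} (Fin n); S) ↘ S) with hq
  set ρ := θ ≫ q with hρ
  set π := (𝔸(ULift.{u} (Fin n); Spec (CommRingCat.of V)) ↘ Spec (CommRingCat.of V)) with hπ
  set m := AffineSpace.map (ULift.{u} (Fin n)) ρ with hm_def
  have hm : IsPullback m π q ρ := AffineSpace.isPullback_map ρ
  let σ : Spec (CommRingCat.of V) ⟶ 𝔸(ULift.{u} (Fin n); Spec (CommRingCat.of V)) :=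
    hm.lift θ (𝟙 _) (by rw [Category.id_comp])
  have hσm : σ ≫ m = θ := hm.lift_fst _ _ _
  have hσπ : σ ≫ π = 𝟙 _ := hm.lift_snd _ _ _
  let XN := pullback u m
  let aN : XN ⟶ X := pullback.fst u m
  let uN : XN ⟶ 𝔸(ULift.{u} (Fin n); Spec (CommRingCat.of V)) := pullback.snd u m
  have hXN : IsPullback aN uN u m := IsPullback.of_hasPullback u m
  have hbig : IsPullback aN (uN ≫ π) f ρ := by
    have := hXN.paste_vert hm
    rwa [hu] at this
  let ι : P ⟶ XN := pullback.lift a (b ≫ σ) (by rw [Category.assoc, hσm]; exact hc.w)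
  have hιa : ι ≫ aN = a := pullback.lift_fst _ _ _
  have hιu : ι ≫ uN = b ≫ σ := pullback.lift_snd _ _ _
  have hι : IsPullback ι b uN σ :=
    IsPullback.of_right (by rw [hιa, hσm]; exact hc) hιu hXN
  haveI : IsClosedImmersion σ := by
    haveI : IsClosedImmersion (σ ≫ π) := by rw [hσπ]; infer_instance
    exact IsClosedImmersion.of_comp σ π
  haveI : IsClosedImmersion ι :=
    MorphismProperty.of_isPullback (P := @IsClosedImmersion) hι.flip inferInstance
  haveI : LocallyOfFiniteType (uN ≫ π) :=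
    MorphismProperty.of_isPullback (P := @LocallyOfFiniteType) hbig inferInstance
  haveI : LocallyQuasiFinite uN := inferInstanceAs (LocallyQuasiFinite (pullback.snd u m))
  set gN := uN ≫ π with hgN
  let w : XN := ι.base xP
  have haw : aN.base w = x := by
    change aN.base (ι.base xP) = x
    rw [← Scheme.Hom.comp_apply, hιa]; exact hxP
  -- the point z⁰ over z in the same fibre
  obtain ⟨z₀, hz₀w, hz₀a, hz₀g⟩ := exists_specializes_of_isPullback_of_same_fibre f ρ gN aN hbig w z
    (by rw [haw]; exact hzx) (by rw [haw]; exact hfz)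
  obtain ⟨zV, hzV1, hzV2, hzVmax, -, hzVdim⟩ := exists_maximal_fibre_point_fibreDimAt_eq gN z₀
  have hsq : ∀ t : XN, f.base (aN.base t) = ρ.base (gN.base t) := by
    intro t
    have := congrArg (fun h => h.base t) hbig.w
    simpa using this
  have hazV : aN.base zV = z := by
    apply hzmax
    · rw [hsq, hzV1, ← hsq, hz₀a]
    · rw [← hz₀a]; exact hzV2.map aN.continuous
  have hopenV : EGA43.IsOpenAt gN.base zV :=
    isOpenAt_of_isUnivOpenAt_of_isPullback f ρ gN aN hbig z hopen zV hazV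
  have hdimV : (n : WithBot ℕ∞) ≤ FlatMor.fibreDimAt gN zV := by
    rw [Groth.Agent.H49.FibreDimAtBC.fibreDimAt_eq_of_isPullback f ρ gN aN hbig zV]
    have : (aN zV) = z := hazV
    rw [this]; exact hdim
  have huw : uN.base w = σ.base (b.base xP) := by
    change uN.base (ι.base xP) = _
    rw [← Scheme.Hom.comp_apply, hιu]; rfl
  have hbot : (⊥ : PrimeSpectrum V) ⤳ b.base xP :=
    (PrimeSpectrum.le_iff_specializes _ _).mp bot_le
  have hb' : σ.base (⊥ : PrimeSpectrum V) ⤳ uN.base w := by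
    rw [huw]; exact hbot.map σ.continuous
  obtain ⟨w', hw'w, hw'⟩ := exists_specializes_of_lqf_affineSpace_valuationRing n uN zV w
    (hzV2.trans hz₀w) (fun z' h1 h2 => by rw [hzVmax z' h1 h2]) hopenV hdimV _ hb'
  obtain ⟨xP', hxP'1, hxP'2⟩ := exists_of_isPullback hι w' (⊥ : PrimeSpectrum V) hw'
  refine ⟨xP', ?_, hxP'2⟩
  apply ι.isEmbedding.isInducing.specializes_iff.mp
  rw [hxP'1]; exact hw'w

end Groth.Agent.H17.QF
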