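import Mathlib
import Groth.Prelude.Def_EGA43

set_option autoImplicit false
set_option linter.style.haveILetI false
universe u
open CategoryTheory AlgebraicGeometry Topology

namespace Groth.Agent.H17.QF

/-- A constructible subset of a prime spectrum containing all generizations of `y` is a
neighbourhood of `y`. -/
theorem mem_nhds_of_isConstructible_of_forall_specializes {R : Type u} [CommRing R]
    (E : Set (PrimeSpectrum R)) (hE : IsConstructible E) (y : PrimeSpectrum R)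
    (H : ∀ y' : PrimeSpectrum R, y' ⤳ y → y' ∈ E) : E ∈ 𝓝 y := by
  obtain ⟨S, _, g, hg⟩ := PrimeSpectrum.exists_range_eq_of_isConstructible hE.compl
  rw [← mem_interior_iff_mem_nhds, ← compl_compl E, interior_compl, ← hg,
    PrimeSpectrum.closure_range_comap, Set.mem_compl_iff, PrimeSpectrum.mem_zeroLocus]
  intro hker
  have hle : (⊥ : Ideal S).comap g ≤ y.asIdeal := hker
  obtain ⟨q, -, hq, hqle⟩ := y.asIdeal.exists_ideal_comap_le_prime (⊥ : Ideal S) hle
  have h1 : PrimeSpectrum.comap g ⟨q, hq⟩ ⤳ y :=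
    (PrimeSpectrum.le_iff_specializes _ _).mp hqle
  have h2 : PrimeSpectrum.comap g ⟨q, hq⟩ ∈ Eᶜ := by rw [← hg]; exact ⟨_, rfl⟩
  exact h2 (H _ h1)

/-- A morphism locally of finite presentation is open at a point as soon as generizations of the
image point lift to generizations of the point. -/
theorem isOpenAt_of_forall_generization_lift {X' Y' : Scheme.{u}} (h : X' ⟶ Y')
    [LocallyOfFinitePresentation h] (x' : X')
    (H : ∀ t' : Y', t' ⤳ h.base x' → ∃ x'' : X', x'' ⤳ x' ∧ h.base x'' = t') :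
    EGA43.IsOpenAt h.base x' := by
  intro N hN
  obtain ⟨_, ⟨(Y₀ : Y'.Opens), hY₀, rfl⟩, hxY₀, -⟩ :=
    Y'.isBasis_affineOpens.exists_subset_of_mem_open (Set.mem_univ (h.base x')) isOpen_univ
  have hY₀' : IsAffineOpen Y₀ := hY₀
  let O : Set X' := (h ⁻¹ᵁ Y₀ : X'.Opens) ∩ interior N
  have hOopen : IsOpen O := (h ⁻¹ᵁ Y₀).isOpen.inter isOpen_interior
  have hxO : x' ∈ O := ⟨hxY₀, mem_interior_iff_mem_nhds.mpr hN⟩
  obtain ⟨_, ⟨(U₀ : X'.Opens), hU₀, rfl⟩, hxU₀, hU₀O⟩ :=
    X'.isBasis_affineOpens.exists_subset_of_mem_open hxO hOopen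
  have hU₀' : IsAffineOpen U₀ := hU₀
  have hle : U₀ ≤ h ⁻¹ᵁ Y₀ := fun t ht => (hU₀O ht).1
  have hsub : h.base '' (U₀ : Set X') ⊆ h.base '' N := by
    apply Set.image_mono
    exact fun t ht => interior_subset (hU₀O ht).2
  refine Filter.mem_of_superset ?_ hsub
  -- the ring map
  let φ := h.appLE Y₀ U₀ hle
  have hfp : φ.hom.FinitePresentation :=
    HasRingHomProperty.appLE (P := @LocallyOfFinitePresentation) h inferInstance
      ⟨Y₀, hY₀'⟩ ⟨U₀, hU₀'⟩ hle
  have hsq : Spec.map φ ≫ hY₀'.fromSpec = hU₀'.fromSpec ≫ h :=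
    IsAffineOpen.SpecMap_appLE_fromSpec h hY₀' hU₀' hle
  have hpt : ∀ t, hY₀'.fromSpec.base (PrimeSpectrum.comap φ.hom t) =
      h.base (hU₀'.fromSpec.base t) := by
    intro t
    have := congrArg (fun k => k.base t) hsq
    exact this
  obtain ⟨p₀, hp₀⟩ : ∃ p, hU₀'.fromSpec.base p = x' := by
    have : x' ∈ Set.range hU₀'.fromSpec.base := by rw [hU₀'.range_fromSpec]; exact hxU₀
    exact this
  have himg : h.base '' (U₀ : Set X') =
      hY₀'.fromSpec.base '' (Set.range (PrimeSpectrum.comap φ.hom)) := by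
    ext y
    constructor
    · rintro ⟨a, ha, rfl⟩
      have : a ∈ Set.range hU₀'.fromSpec.base := by rw [hU₀'.range_fromSpec]; exact ha
      obtain ⟨t, rfl⟩ := this
      exact ⟨_, ⟨t, rfl⟩, hpt t⟩
    · rintro ⟨_, ⟨t, rfl⟩, rfl⟩
      refine ⟨hU₀'.fromSpec.base t, ?_, (hpt t).symm⟩
      have : hU₀'.fromSpec.base t ∈ Set.range hU₀'.fromSpec.base := ⟨t, rfl⟩
      rw [hU₀'.range_fromSpec] at this
      exact this
  rw [himg, ← hp₀, ← hpt p₀]
  apply hY₀'.fromSpec.isOpenEmbedding.isOpenMap.image_mem_nhds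
  apply mem_nhds_of_isConstructible_of_forall_specializes _
    (PrimeSpectrum.isConstructible_range_comap hfp)
  intro y' hy'
  have h1 : hY₀'.fromSpec.base y' ⤳ h.base x' := by
    have := hy'.map hY₀'.fromSpec.continuous
    rw [hpt p₀, hp₀] at this
    exact this
  obtain ⟨x'', hx''x', hx''⟩ := H _ h1
  have hx''U : x'' ∈ U₀ := hx''x'.mem_open U₀.isOpen hxU₀
  obtain ⟨p'', hp''⟩ : ∃ p, hU₀'.fromSpec.base p = x'' := by
    have : x'' ∈ Set.range hU₀'.fromSpec.base := by rw [hU₀'.range_fromSpec]; exact hx''U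
    exact this
  refine ⟨p'', ?_⟩
  apply hY₀'.fromSpec.isOpenEmbedding.injective
  rw [hpt p'', hp'', hx'']

end Groth.Agent.H17.QF
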