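import Groth.Agent.H17.QF.KeyClaim
import Groth.Agent.H17.QF.OpenAtCrit
import Groth.Agent.H17.Val.ValSpec
import Groth.Agent.H17.FibreSurj

set_option autoImplicit false
set_option linter.style.haveILetI false
universe u
open CategoryTheory AlgebraicGeometry Limits Topology TopologicalSpace

namespace Groth.Agent.H17.QF

/-- **EGA IV 14.5.9 (core form)**: a locally quasi-finite `S`-morphism `u : X ⟶ 𝔸ⁿ_S` is universally
open at `x` as soon as `f : X ⟶ S` is universally open at a maximal point `z` of the fibre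
generizing `x` with `dim_z X_s ≥ n`. -/
theorem isUnivOpenAt_of_lqf_affineSpace {X S : Scheme.{u}} (f : X ⟶ S)
    [LocallyOfFinitePresentation f]
    (n : ℕ) (u : X ⟶ 𝔸(ULift.{u} (Fin n); S)) [LocallyQuasiFinite u]
    (hu : u ≫ (𝔸(ULift.{u} (Fin n); S) ↘ S) = f)
    (x z : X) (hzx : z ⤳ x) (hfz : f.base z = f.base x)
    (hzmax : ∀ z' : X, f.base z' = f.base z → z' ⤳ z → z' = z)
    (hopen : EGA43.IsUnivOpenAt f z)
    (hdim : (n : WithBot ℕ∞) ≤ FlatMor.fibreDimAt f z) : EGA43.IsUnivOpenAt u x := by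
  have : LocallyOfFinitePresentation (u ≫ (𝔸(ULift.{u} (Fin n); S) ↘ S)) := by
    rw [hu]; infer_instance
  have : LocallyOfFinitePresentation u :=
    Groth.Agent.H17.locallyOfFinitePresentation_of_comp u (𝔸(ULift.{u} (Fin n); S) ↘ S)
  intro Y' g x' hx'
  apply isOpenAt_of_forall_generization_lift (pullback.snd u g) x'
  intro t' ht'
  obtain ⟨V, hV1, hV2, hV3, φ, hφc, hφη⟩ :=
    Groth.Agent.H17.Val.exists_valuationRing_hom t' ((pullback.snd u g).base x') ht'
  have s1 : IsPullback (pullback.fst (pullback.snd u g) φ) (pullback.snd (pullback.snd u g) φ)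
      (pullback.snd u g) φ := IsPullback.of_hasPullback _ _
  have s2 : IsPullback (pullback.fst u g) (pullback.snd u g) u g := IsPullback.of_hasPullback _ _
  have s3 := s1.paste_horiz s2
  obtain ⟨xP, hxP1, hxP2⟩ := Groth.Agent.H17.Val.exists_of_isPullback s1 x'
    (IsLocalRing.closedPoint V) hφc.symm
  obtain ⟨xP', hxP'1, hxP'2⟩ := exists_generization_over_generic f n u hu x z
    hzx hfz hzmax hopen hdim (φ ≫ g) _ _ s3 xP (by
      rw [Scheme.Hom.comp_apply, hxP1]; exact hx')
  refine ⟨(pullback.fst (pullback.snd u g) φ).base xP', ?_, ?_⟩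
  · rw [← hxP1]
    exact hxP'1.map (pullback.fst (pullback.snd u g) φ).continuous
  · have h1 := congrArg (fun k => k.base xP') s1.w
    simp only [Scheme.Hom.comp_apply] at h1
    rw [h1, hxP'2, ← hφη, genericPoint_eq_bot_of_affine]

/-- Universal openness at a point passes to base changes. -/
theorem isUnivOpenAt_of_isPullback {X Y X' Y' : Scheme.{u}} (f : X ⟶ Y) (g : Y' ⟶ Y)
    (f' : X' ⟶ Y') (g' : X' ⟶ X) (hc : IsPullback g' f' f g) (x' : X')
    (h : EGA43.IsUnivOpenAt f (g'.base x')) : EGA43.IsUnivOpenAt f' x' := by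
  intro Y'' k x'' hx''
  have s1 : IsPullback (pullback.fst f' k) (pullback.snd f' k) f' k := IsPullback.of_hasPullback _ _
  have s2 := s1.paste_horiz hc
  exact isOpenAt_of_isUnivOpenAt_of_isPullback f (k ≫ g) (pullback.snd f' k)
    (pullback.fst f' k ≫ g') s2 (g'.base x') h x'' (by
      rw [Scheme.Hom.comp_apply, hx''])

/-- Universal openness at a point passes to restrictions to opens of source and target. -/
theorem isUnivOpenAt_of_isOpenImmersion_of_mono {X Y X₁ Y₁ : Scheme.{u}} (f : X ⟶ Y)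
    (f₁ : X₁ ⟶ Y₁) (i : X₁ ⟶ X) [IsOpenImmersion i] (j : Y₁ ⟶ Y) [Mono j]
    (hc : f₁ ≫ j = i ≫ f) (z₁ : X₁) (h : EGA43.IsUnivOpenAt f (i.base z₁)) :
    EGA43.IsUnivOpenAt f₁ z₁ := by
  intro Y' g x' hx'
  let k : pullback f₁ g ⟶ pullback f (g ≫ j) :=
    pullback.lift (pullback.fst f₁ g ≫ i) (pullback.snd f₁ g) (by
      rw [Category.assoc, ← hc, ← Category.assoc, pullback.condition, Category.assoc])
  have hk1 : k ≫ pullback.fst f (g ≫ j) = pullback.fst f₁ g ≫ i := pullback.lift_fst _ _ _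
  have hk2 : k ≫ pullback.snd f (g ≫ j) = pullback.snd f₁ g := pullback.lift_snd _ _ _
  have sA : IsPullback (pullback.snd f (g ≫ j)) (pullback.fst f (g ≫ j)) (g ≫ j) f :=
    (IsPullback.of_hasPullback f (g ≫ j)).flip
  have sBig : IsPullback (pullback.snd f₁ g) (pullback.fst f₁ g) (g ≫ j) (f₁ ≫ j) := by
    have h1 : IsPullback (pullback.fst f₁ g) (pullback.snd f₁ g) (f₁ ≫ j) (g ≫ j) :=
      IsPullback.of_isLimit (pullbackIsPullbackOfCompMono f₁ g j)
    exact h1.flip
  have sB : IsPullback k (pullback.fst f₁ g) (pullback.fst f (g ≫ j)) i := by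
    apply IsPullback.of_right _ hk1 sA
    rw [hk2, ← hc]
    exact sBig
  haveI : IsOpenImmersion k :=
    MorphismProperty.of_isPullback (P := @IsOpenImmersion) sB.flip inferInstance
  have h3 := h Y' (g ≫ j) (k.base x') (by
    rw [← Scheme.Hom.comp_apply, hk1, Scheme.Hom.comp_apply, hx'])
  intro N hN
  have h4 : k.base '' N ∈ nhds (k.base x') := k.isOpenEmbedding.isOpenMap.image_mem_nhds hN
  have h5 := h3 _ h4
  have h6 : (pullback.snd f (g ≫ j)).base '' (k.base '' N) = (pullback.snd f₁ g).base '' N := by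
    rw [← Set.image_comp]
    congr 1
    ext t
    change (k ≫ pullback.snd f (g ≫ j)).base t = _
    rw [hk2]
  have h7 : (pullback.snd f (g ≫ j)).base (k.base x') = (pullback.snd f₁ g).base x' := by
    rw [← Scheme.Hom.comp_apply, hk2]
  rw [h6, h7] at h5
  exact h5

end Groth.Agent.H17.QF
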